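import Mathlib

/-!
# The orders of the permutations of at most ten points (helper396, TEAM TWOCYC, S3507)
-/

set_option autoImplicit false

namespace Cfsg.Agent.H396.TwoCyc

/-- the orders of the permutations of `m` points, `m ≤ 10` -/
def LS : ℕ → List ℕ
  | 0 => [1]
  | 1 => [1]
  | 2 => [1, 2]
  | 3 => [1, 2, 3]
  | 4 => [1, 2, 3, 4]
  | 5 => [1, 2, 3, 4, 5, 6]
  | 6 => [1, 2, 3, 4, 5, 6]
  | 7 => [1, 2, 3, 4, 5, 6, 7, 10, 12]
  | 8 => [1, 2, 3, 4, 5, 6, 7, 8, 10, 12, 15]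
  | 9 => [1, 2, 3, 4, 5, 6, 7, 8, 9, 10, 12, 14, 15, 20]
  | 10 => [1, 2, 3, 4, 5, 6, 7, 8, 9, 10, 12, 14, 15, 20, 21, 30]
  | _ => []

theorem LS_closed : ∀ m ≤ 10, ∀ a ≤ m, 1 ≤ a → ∀ x ∈ LS (m - a), Nat.lcm a x ∈ LS m := by
  decide +kernel

theorem one_mem_LS : ∀ m ≤ 10, 1 ∈ LS m := by decide +kernel

theorem lcm_mem (s : Multiset ℕ) : ∀ m ≤ 10, s.sum ≤ m → (∀ a ∈ s, 1 ≤ a) → s.lcm ∈ LS m := by
  induction s using Multiset.induction_on with
  | empty =>
    intro m hm _ _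
    rw [Multiset.lcm_zero]
    exact one_mem_LS m hm
  | cons a s ih =>
    intro m hm hs ha
    rw [Multiset.sum_cons] at hs
    rw [Multiset.lcm_cons]
    refine LS_closed m hm a (by omega) (ha a (Multiset.mem_cons_self a s)) _ ?_
    exact ih (m - a) (by omega) (by omega) (fun b hb => ha b (Multiset.mem_cons_of_mem hb))

/-- The orders of the permutations of at most ten points. -/
theorem orderOf_mem {m : ℕ} (hm : m ≤ 10) (σ : Equiv.Perm (Fin m)) : orderOf σ ∈ LS m := by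
  rw [← Equiv.Perm.lcm_cycleType]
  refine lcm_mem _ m hm ?_ ?_
  · have := Equiv.Perm.sum_cycleType_le σ
    rwa [Fintype.card_fin] at this
  · intro a ha
    exact (Nat.le_of_succ_le (Equiv.Perm.two_le_of_mem_cycleType ha))

/-- A permutation of prime order `p`, where `m < 2 p`, is a `p`-cycle. -/
theorem cycleType_eq {m p : ℕ} (hp : p.Prime) (hm : m < 2 * p) {σ : Equiv.Perm (Fin m)} (h : orderOf σ = p) :
    σ.cycleType = {p} := by
  obtain ⟨n, hn⟩ := Equiv.Perm.cycleType_prime_order (σ := σ) (by rw [h]; exact hp)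
  have h1 := Equiv.Perm.sum_cycleType_le σ
  rw [Fintype.card_fin, hn, Multiset.sum_replicate, smul_eq_mul, h] at h1
  have h2 : n = 0 := by
    by_contra h0
    have h3 : 2 * p ≤ (n + 1) * p := Nat.mul_le_mul_right p (by omega)
    omega
  rw [hn, h2, h]
  rfl

/-- The centralizer of a `p`-cycle on `p` or `p + 1` points. -/
theorem card_centralizer {m p : ℕ} (hp : p.Prime) (h1 : m ≤ p + 1) {σ : Equiv.Perm (Fin m)} (h : orderOf σ = p)
    (h3 : 3 ≤ p) : Nat.card (Subgroup.centralizer ({σ} : Set (Equiv.Perm (Fin m)))) = p := by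
  have h2 := cycleType_eq hp (by omega) h
  have hle : p ≤ m := by
    have h4 := Equiv.Perm.sum_cycleType_le σ
    rwa [Fintype.card_fin, h2, Multiset.sum_singleton] at h4
  rw [Equiv.Perm.nat_card_centralizer, h2, Fintype.card_fin, Multiset.sum_singleton, Multiset.prod_singleton]
  have h5 : (m - p).factorial = 1 := by
    have : m - p = 0 ∨ m - p = 1 := by omega
    rcases this with h | h <;> rw [h] <;> rfl
  rw [h5]
  simp

end Cfsg.Agent.H396.TwoCyc
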