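import Cfsg.Agent.H482.TwoCyc.Row
import Cfsg.Agent.H704.Bridge
import Cfsg.Agent.H704.Enum
import Cfsg.Agent.H621.SymDeg.Chars
import Cfsg.Agent.H321.Alt
import Cfsg.Agent.H396.TwoCyc.Orders

/-!
# TEAM TWOCYC: a lower bound for the degree, and the character degrees of `A₅, …, A₈` (helper396)

* `lower` : if the rank is at least `4` and `MD T δ`, then `|Ω| ≥ 3 δ + 1`;
* `md_of_sub` : `MD` from a simple subgroup;
* `md_five`, `md_six`, `md_seven`, `md_eight`.
-/

set_option autoImplicit false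

namespace Cfsg.Agent.H396.TwoCyc

open MulAction Cfsg.Agent.H384.Cyc Cfsg.Agent.H482.TwoCyc
open Cfsg Cfsg.Agent.PermutationGroups.MultFree Cfsg.Agent.PermutationGroups.IrrSum
  Cfsg.Agent.PermutationGroups.Subdegree
open Cfsg.Agent.Characters.Core (isCharacter_comp isIrr_isCharacter isCharacter_one classInner_isNat
  classInner_irr_self)
open Cfsg.Agent.H954.OutDeg (MD)

universe u v

/-- If the rank is at least `4`, the degree is larger than three times the least degree of a nonlinear character. -/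
theorem lower {G : Type u} {Ω : Type v} [Group G] [MulAction G Ω] {T : Subgroup G} {g : G} (h : TC G Ω T g)
    (hcon : ¬ rk G Ω ≤ 3) {δ : ℕ} (hδ : MD ↥T δ) : 3 * δ + 1 ≤ Nat.card Ω := by
  classical
  have := h.finG
  have := h.finΩ
  have := h.norm
  have := h.simple
  have := h.prim
  have := Fintype.ofFinite G
  have := Fintype.ofFinite Ω
  have := Fintype.ofFinite T
  have := Fintype.ofFinite (Subgroup.zpowers g)
  obtain ⟨htr, -⟩ := exists_index h
  have h2 := card_le h.two
  have hne : Nonempty Ω := by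
    by_contra hcon
    rw [not_nonempty_iff] at hcon
    have := h.two
    unfold Two at this
    rw [Nat.card_of_isEmpty] at this
    omega
  obtain ⟨a⟩ := hne
  obtain ⟨m, hm1, hm2, hm3, hm4⟩ := exists_decomp' (G := G) a
  obtain ⟨c, hc⟩ := exists_mult (Subgroup.zpowers g)
  obtain ⟨t, ht⟩ := exists_mult T
  have hoC := card_orbits (Subgroup.zpowers g) hc hm1
  have hoT := card_orbits T ht hm1
  set one : IrrCharacter G := ⟨_, isIrr_one⟩ with hone
  have hmem : one ∈ m.support := by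
    rw [Finsupp.mem_support_iff, hm2]
    exact one_ne_zero
  obtain ⟨S, hS⟩ : ∃ S, S = m.support.erase one := ⟨_, rfl⟩
  have hsplit : ∀ f : IrrCharacter G → ℕ, ∑ ψ ∈ m.support, f ψ = f one + ∑ ψ ∈ S, f ψ := by
    intro f
    rw [hS]
    exact (Finset.add_sum_erase _ f hmem).symm
  have hself : ∀ (K : Subgroup G) [Fintype K] (r : IrrCharacter G → ℕ),
      (∀ ψ : IrrCharacter G, classInner (fun k : K => (ψ : G → ℂ) k) (fun _ => 1) = r ψ) →
      r one = 1 := by
    intro K _ r hr
    have h5 := hr one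
    have h6 : classInner (fun k : K => (one : G → ℂ) k) (fun _ => 1) = 1 := classInner_irr_self (G := K) isIrr_one
    rw [h6] at h5
    exact_mod_cast h5.symm
  have hc1 := hself _ c hc
  have ht1 := hself _ t ht
  rw [h.two, hsplit, hm2, hc1] at hoC
  have hT1 : Nat.card (orbitRel.Quotient T Ω) = 1 := by
    rw [Nat.card_eq_one_iff_unique]
    refine ⟨⟨fun x y => ?_⟩, ⟨Quotient.mk'' a⟩⟩
    obtain ⟨x, rfl⟩ := Quotient.exists_rep x
    obtain ⟨y, rfl⟩ := Quotient.exists_rep y
    obtain ⟨s, hs⟩ := exists_smul_eq T y x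
    exact Quotient.sound ⟨s, hs⟩
  rw [hT1, hsplit, hm2, ht1] at hoT
  have hoT' : ∑ ψ ∈ S, m ψ * t ψ = 0 := by omega
  rw [Finset.sum_eq_zero_iff] at hoT'
  have hrk : rk G Ω = Nat.card (orbitRel.Quotient (stabilizer G a) Ω) := Cfsg.Agent.S0669.result a
  rw [hrk, ← hm3, hsplit, hm2] at hcon
  have key := three_le_sum S m c (by omega) (by omega)
  rw [hsplit, hm2] at hm4
  have hd1 : 1 ≤ charDegree (one : G → ℂ) :=
    Cfsg.Agent.Blocks.Basic.charDegree_pos (isIrr_one (G := G))
  have hsum : (∑ ψ ∈ S, m ψ) * δ ≤ ∑ ψ ∈ S, m ψ * charDegree (ψ : G → ℂ) := by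
    rw [Finset.sum_mul]
    refine Finset.sum_le_sum fun ψ hψ => Nat.mul_le_mul_left _ ?_
    refine le_charDegree T h.nonab hδ ψ ?_
    have h5 := hoT' ψ hψ
    have h6 : m ψ ≠ 0 := by
      rw [hS] at hψ
      exact Finsupp.mem_support_iff.mp (Finset.mem_of_mem_erase hψ)
    have h7 : t ψ = 0 := by
      rcases Nat.mul_eq_zero.mp h5 with h8 | h8
      · exact absurd h8 h6
      · exact h8
    rw [ht, h7, Nat.cast_zero]
  have h5 : 3 * δ ≤ (∑ ψ ∈ S, m ψ) * δ := Nat.mul_le_mul_right _ key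
  omega


/-- `MD` passes from a simple subgroup to a simple group. -/
theorem md_of_sub {X : Type u} [Group X] [Finite X] [IsSimpleGroup X] {Y : Type v} [Group Y] [IsSimpleGroup Y]
    (hY : ¬ IsMulCommutative Y) (f : Y →* X) (hf : Function.Injective f) {δ : ℕ} (h : MD Y δ) : MD X δ := by
  classical
  intro χ hχ
  by_contra hlt
  have : Finite Y := Finite.of_injective f hf
  have := Fintype.ofFinite X
  have := Fintype.ofFinite Y
  obtain ⟨n, hn⟩ := exists_sum_irr (isCharacter_comp f (isIrr_isCharacter χ.2))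
  have h2 : charDegree (χ : X → ℂ) = ∑ θ ∈ n.support, n θ * charDegree (θ : Y → ℂ) := by
    have h3 := congrFun hn 1
    rw [Finsupp.sum, Finset.sum_apply] at h3
    have h4 : ((charDegree (χ : X → ℂ) : ℕ) : ℂ) = ((∑ θ ∈ n.support, n θ * charDegree (θ : Y → ℂ) : ℕ) : ℂ) := by
      rw [← Cfsg.Agent.Blocks.Basic.irr_one_eq_charDegree χ.2]
      have h5 : (χ : X → ℂ) 1 = ((χ : X → ℂ) ∘ f) 1 := by
        rw [Function.comp_apply, map_one]
      rw [h5, h3]
      push_cast
      refine Finset.sum_congr rfl fun θ _ => ?_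
      rw [Pi.smul_apply, nsmul_eq_mul, Cfsg.Agent.Blocks.Basic.irr_one_eq_charDegree θ.2]
    exact_mod_cast h4
  have hone : ∀ θ ∈ n.support, (θ : Y → ℂ) = 1 := by
    intro θ hθ
    have h5 : charDegree (θ : Y → ℂ) = 1 := by
      by_contra h6
      have h7 := h θ h6
      have h8 : charDegree (θ : Y → ℂ) ≤ n θ * charDegree (θ : Y → ℂ) :=
        Nat.le_mul_of_pos_left _ (Nat.pos_of_ne_zero (Finsupp.mem_support_iff.mp hθ))
      have h9 : n θ * charDegree (θ : Y → ℂ) ≤ ∑ θ ∈ n.support, n θ * charDegree (θ : Y → ℂ) :=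
        Finset.single_le_sum (f := fun θ => n θ * charDegree (θ : Y → ℂ)) (fun _ _ => Nat.zero_le _) hθ
      omega
    refine Cfsg.Agent.SporadicA.M11CharSimple.eq_one_of_degree_one ?_ θ.2 ?_
    · intro hc
      exact hY ⟨⟨fun a b => hc a b⟩⟩
    · rw [Cfsg.Agent.Blocks.Basic.irr_one_eq_charDegree θ.2, h5, Nat.cast_one]
  have hconst : ∀ y : Y, (χ : X → ℂ) (f y) = (χ : X → ℂ) 1 := by
    intro y
    have h5 : (χ : X → ℂ) (f y) = ((χ : X → ℂ) ∘ f) y := rfl
    have h6 : (χ : X → ℂ) 1 = ((χ : X → ℂ) ∘ f) 1 := by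
      rw [Function.comp_apply, map_one]
    rw [h5, h6, hn, Finsupp.sum, Finset.sum_apply, Finset.sum_apply]
    refine Finset.sum_congr rfl fun θ hθ => ?_
    rw [Pi.smul_apply, Pi.smul_apply, hone θ hθ]
    rfl
  obtain ⟨y, hy⟩ := exists_ne (1 : Y)
  have h5 : f y ∈ Cfsg.Agent.H686.CharKit.chKer χ := hconst y
  rw [Cfsg.Agent.H677.CodMultiset.chKer_eq_bot (H954.OutDeg.ne_one hχ), Subgroup.mem_bot] at h5
  exact hy (hf (by rw [h5, map_one]))

/-- the degrees of `A_n` -/
theorem deg_alt {n : ℕ} (hn : 5 ≤ n) (χ : IrrCharacter (alternatingGroup (Fin n))) :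
    ∃ d : ℕ, H704.IsDeg n d ∧ (d = charDegree (χ : alternatingGroup (Fin n) → ℂ) ∨
      d = 2 * charDegree (χ : alternatingGroup (Fin n) → ℂ)) := by
  have : Nontrivial (Fin n) := Fin.nontrivial_iff_two_le.2 (by omega)
  have h1 : (alternatingGroup (Fin n)).index = 2 := alternatingGroup.index_eq_two
  obtain ⟨ψ, hψ, h2⟩ := H621.SymDeg.exists_over h1 χ.2
  obtain ⟨d, h3, h4⟩ := H704.isDeg_of_irr hψ
  refine ⟨d, h4, ?_⟩
  rw [Cfsg.Agent.Blocks.Basic.irr_one_eq_charDegree χ.2, h3] at h2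
  rcases h2 with h2 | h2
  · left; exact_mod_cast h2
  · right; exact_mod_cast h2

theorem alt_simple {n : ℕ} (hn : 5 ≤ n) : IsSimpleGroup (alternatingGroup (Fin n)) :=
  alternatingGroup.isSimpleGroup (by rw [Nat.card_eq_fintype_card, Fintype.card_fin]; exact hn)

theorem alt_not_comm {n : ℕ} (hn : 5 ≤ n) : ¬ IsMulCommutative (alternatingGroup (Fin n)) := by
  intro h
  have hs := alt_simple hn
  have hc : ∀ a b : alternatingGroup (Fin n), a * b = b * a := h.is_comm.comm
  let _ : CommGroup (alternatingGroup (Fin n)) :=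
    { (inferInstance : Group (alternatingGroup (Fin n))) with mul_comm := hc }
  have hp : (Nat.card (alternatingGroup (Fin n))).Prime := IsSimpleGroup.prime_card
  have h1 := H321.Alt.card_alt (n := n) (by omega)
  have h2 : 12 ∣ Nat.card (alternatingGroup (Fin n)) := by
    have h3 : Nat.factorial 4 ∣ n.factorial := Nat.factorial_dvd_factorial (by omega)
    rw [← h1, show Nat.factorial 4 = 2 * 12 by rfl] at h3
    exact Nat.dvd_of_mul_dvd_mul_left (by norm_num) h3
  have h3 : 2 ∣ Nat.card (alternatingGroup (Fin n)) := dvd_trans (by norm_num) h2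
  have h4 := (Nat.prime_dvd_prime_iff_eq Nat.prime_two hp).1 h3
  rw [← h4] at h2
  norm_num at h2

theorem md_five : MD (alternatingGroup (Fin 5)) 3 :=
  have := alt_simple (n := 5) le_rfl
  H954.OutDeg.md_three (alt_not_comm le_rfl)

theorem md_six : MD (alternatingGroup (Fin 6)) 5 := by
  intro χ hχ
  obtain ⟨d, h1, h2⟩ := deg_alt (by norm_num) χ
  have h3 := H704.deg6 h1
  simp only [List.mem_cons, List.not_mem_nil, or_false] at h3
  omega

theorem md_seven : MD (alternatingGroup (Fin 7)) 6 := by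
  have h5 : MD (alternatingGroup (Fin 7)) 5 := by
    obtain ⟨f, hf⟩ := H321.Alt.exists_inj (m := 6) (n := 7) (by norm_num)
    have := alt_simple (n := 7) (by norm_num)
    have := alt_simple (n := 6) (by norm_num)
    exact md_of_sub (alt_not_comm (by norm_num)) f hf md_six
  intro χ hχ
  obtain ⟨d, h1, h2⟩ := deg_alt (by norm_num) χ
  have h3 := H704.deg7 h1
  simp only [List.mem_cons, List.not_mem_nil, or_false] at h3
  have h4 := h5 χ hχ
  omega

theorem md_eight : MD (alternatingGroup (Fin 8)) 7 := by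
  intro χ hχ
  obtain ⟨d, h1, h2⟩ := deg_alt (by norm_num) χ
  have h3 := H704.deg8 h1
  simp only [List.mem_cons, List.not_mem_nil, or_false] at h3
  omega

end Cfsg.Agent.H396.TwoCyc
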