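import Cfsg.Agent.H396.TwoCyc.Eight
import Cfsg.Agent.H994.Cyc.Alt
import Cfsg.Agent.S0713

/-!
# TEAM TWOCYC: the row `A₁₀` (helper396), and the row of all alternating groups
-/

set_option autoImplicit false

namespace Cfsg.Agent.H396.TwoCyc

open MulAction Cfsg.Agent.H384.Cyc Cfsg.Agent.H482.TwoCyc Equiv Equiv.Perm
open scoped Nat

universe u v

/-- A primitive group of degree `10` of order divisible by `7` contains `A₁₀`. -/
theorem alt_le_of_seven (H : Subgroup (Perm (Fin 10))) (hp : IsPreprimitive H (Fin 10)) (h7 : 7 ∣ Nat.card H) :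
    alternatingGroup (Fin 10) ≤ H := by
  have : Fact (Nat.Prime 7) := ⟨by norm_num⟩
  obtain ⟨x, hx⟩ := exists_prime_orderOf_dvd_card' 7 h7
  have hx' : orderOf (x : Perm (Fin 10)) = 7 := by rw [Subgroup.orderOf_coe, hx]
  have h1 := cycleType_eq (m := 10) (p := 7) (by norm_num) (by norm_num) hx'
  have h2 : (x : Perm (Fin 10)).IsCycle := card_cycleType_eq_one.1 (by rw [h1]; rfl)
  refine Cfsg.Agent.S0713.result H hp (p := 7) (by norm_num) (by simp) (by simp) h2 ?_ x.2
  rw [← sum_cycleType, h1, Multiset.sum_singleton]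

/-- **The row `A₁₀`.** -/
theorem row_ten : Row3.{u, v} (fun T _ => Nonempty (T ≃* alternatingGroup (Fin 10))) := by
  intro G Ω _ _ T g hTC ⟨e⟩
  by_contra hcon
  have := hTC.finG
  have := hTC.finΩ
  have := hTC.norm
  obtain ⟨θ, h⟩ := Cfsg.Agent.H994.Cyc.exists_ctx hTC (by norm_num) e
  obtain ⟨α⟩ := exists_pt hTC
  have h2 := card_le hTC.two
  have h3 := orderOf_le hTC.cent ((mo_of (n := 10) (m := 30) (by norm_num) (by norm_num) (by norm_num)
    (by decide)).congr e.symm) g
  have hi : IsPretransitive ((stabilizer G α).map θ) (Fin 10) := by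
    by_contra hi
    exact hcon (h.intrans α hi)
  by_cases hp : IsPreprimitive ((stabilizer G α).map θ) (Fin 10)
  · have h4 := h.primi α hp
    have h5 : ((10 + 1) / 2)! = 120 := by decide
    rw [h5] at h4
    have h6 : Nat.card Ω = 60 := by omega
    have h7 := h.card_eq α
    rw [h6] at h7
    have h8 : Nat.card θ.range ∣ 3628800 := by
      have h9 := Subgroup.card_subgroup_dvd_card θ.range
      rw [Nat.card_perm, Nat.card_fin] at h9
      exact h9
    have h9 : Nat.card (alternatingGroup (Fin 10)) ∣ Nat.card θ.range := Subgroup.card_dvd_of_le h.alt_le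
    have h10 : Nat.card (alternatingGroup (Fin 10)) = 1814400 := by
      have h11 := H321.Alt.card_alt (n := 10) (by norm_num)
      have h12 : Nat.factorial 10 = 3628800 := by decide
      omega
    rw [h10, h7] at h9
    have h11 : 7 ∣ Nat.card ((stabilizer G α).map θ) := by
      have h12 : 1814400 = 60 * 30240 := by norm_num
      rw [h12] at h9
      have h13 := Nat.dvd_of_mul_dvd_mul_left (by norm_num) h9
      exact (by norm_num : 7 ∣ 30240).trans h13
    have h12 := alt_le_of_seven _ hp h11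
    apply h.not_le α
    rw [← h.map] at h12
    exact (Subgroup.map_le_map_iff_of_injective h.inj).mp h12
  · obtain ⟨a, b, ha, hb, hab, hle⟩ := h.imprim α hi hp
    have h4 : Nat.card Ω ≤ 60 := by omega
    have h5 : 10 ! = 3628800 := by decide
    rw [h5] at hle
    have h6 : a = 2 ∧ b = 5 ∨ a = 5 ∧ b = 2 := by
      have h7 : a ≤ 5 := by
        by_contra h7
        have h8 : 6 * 2 ≤ a * b := Nat.mul_le_mul (by omega) hb
        omega
      interval_cases a <;> omega
    rcases h6 with ⟨rfl, rfl⟩ | ⟨rfl, rfl⟩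
    · have h7 : 5 ! * (2 !) ^ 5 = 3840 := by decide
      rw [h7] at hle
      omega
    · have h7 : 2 ! * (5 !) ^ 2 = 28800 := by decide
      rw [h7] at hle
      omega

/-- **The alternating row.** -/
theorem row_alt : Row3.{u, v} (fun T _ => ∃ m : ℕ, 5 ≤ m ∧ Nonempty (T ≃* alternatingGroup (Fin m))) := by
  intro G Ω _ _ T g hTC ⟨m, hm, hT⟩
  by_cases h9 : m = 9 ∨ 11 ≤ m
  · exact Cfsg.Agent.H994.Cyc.row_alt G Ω T g hTC ⟨m, h9, hT⟩
  have h10 : m = 5 ∨ m = 6 ∨ m = 7 ∨ m = 8 ∨ m = 10 := by omega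
  rcases h10 with rfl | rfl | rfl | rfl | rfl
  · exact row_five G Ω T g hTC hT
  · exact row_six G Ω T g hTC hT
  · exact row_seven G Ω T g hTC hT
  · exact row_eight G Ω T g hTC hT
  · exact row_ten G Ω T g hTC hT

/-! ### `Ord` -/

theorem ord_six : H384.Cyc.Ord (alternatingGroup (Fin 6)) := by
  refine ⟨12, mo_six, ?_⟩
  have h11 := H321.Alt.card_alt (n := 6) (by norm_num)
  have h12 : Nat.factorial 6 = 720 := by decide
  omega

theorem num_ord : ∀ m : ℕ, 7 ≤ m → 64 * 9 ^ m < (m !) ^ 3 := by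
  intro m hm
  induction m, hm using Nat.le_induction with
  | base => decide
  | succ m hm ih =>
    rw [Nat.factorial_succ, mul_pow, pow_succ]
    have h1 : 9 ≤ (m + 1) ^ 3 := by
      calc 9 ≤ 8 ^ 3 := by norm_num
        _ ≤ (m + 1) ^ 3 := Nat.pow_le_pow_left (by omega) 3
    calc 64 * (9 ^ m * 9) = 9 * (64 * 9 ^ m) := by ring
      _ < 9 * (m !) ^ 3 := (Nat.mul_lt_mul_left (by norm_num)).2 ih
      _ ≤ (m + 1) ^ 3 * (m !) ^ 3 := Nat.mul_le_mul_right _ h1

/-- `Ord` for the alternating groups of degree at least six. -/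
theorem ord_alt {m : ℕ} (h6 : 6 ≤ m) : H384.Cyc.Ord (alternatingGroup (Fin m)) := by
  rcases h6.eq_or_lt with rfl | h6
  · exact ord_six
  let M := Nat.findGreatest (fun k => k ^ 3 ≤ 3 ^ m) (3 ^ m)
  have hM : M ^ 3 ≤ 3 ^ m := Nat.findGreatest_spec (P := fun k => k ^ 3 ≤ 3 ^ m) (m := 0) (Nat.zero_le _) (by simp)
  refine ⟨M, ?_, ?_⟩
  · intro f
    obtain ⟨σ, hσ⟩ := orderOf_aut (n := m) (by omega) (by omega) f
    have h1 : orderOf f ≤ orderOf σ := Nat.le_of_dvd (orderOf_pos σ) hσ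
    have h2 := H994.Cyc.orderOf_perm σ
    have h3 : orderOf f ^ 3 ≤ 3 ^ m := (Nat.pow_le_pow_left h1 3).trans h2
    refine Nat.le_findGreatest ?_ h3
    exact (Nat.le_self_pow (by norm_num) _).trans h3
  · have h1 := H321.Alt.card_alt (n := m) (by omega)
    have h2 := num_ord m h6
    have h3 : (4 * M ^ 2) ^ 3 < (m !) ^ 3 := by
      calc (4 * M ^ 2) ^ 3 = 64 * (M ^ 3) ^ 2 := by ring
        _ ≤ 64 * (3 ^ m) ^ 2 := Nat.mul_le_mul_left _ (Nat.pow_le_pow_left hM 2)
        _ = 64 * 9 ^ m := by rw [← pow_mul, mul_comm m 2, pow_mul]; norm_num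
        _ < _ := h2
    have h4 : 4 * M ^ 2 < m ! := lt_of_pow_lt_pow_left' 3 h3
    omega

end Cfsg.Agent.H396.TwoCyc
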