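import Cfsg.Agent.H396.TwoCyc.Six

/-!
# TEAM TWOCYC: the rows `A₇` and `A₈` (helper396)
-/

set_option autoImplicit false

namespace Cfsg.Agent.H396.TwoCyc

open MulAction Cfsg.Agent.H384.Cyc Cfsg.Agent.H482.TwoCyc Equiv Equiv.Perm

universe u v

theorem card_alt_seven : Nat.card (alternatingGroup (Fin 7)) = 2520 := by
  have h1 := H321.Alt.card_alt (n := 7) (by norm_num)
  have h2 : Nat.factorial 7 = 5040 := rfl
  omega

theorem card_alt_eight : Nat.card (alternatingGroup (Fin 8)) = 20160 := by
  have h1 := H321.Alt.card_alt (n := 8) (by norm_num)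
  have h2 : Nat.factorial 8 = 40320 := rfl
  omega

/-- the group of order `7 r` has an impossible number of Sylow subgroups -/
theorem no_seven {K : Type u} [Group K] [Finite K] (h : CP K 7) {r : ℕ} (hK : Nat.card K = 7 * r) (hr : ¬ 7 ∣ r)
    (hd : ∀ d ≤ 6, ∀ s ≤ r, r = d * s → s % 7 = 1 → d ∣ 6 → False) : False := by
  obtain ⟨Q, hQ⟩ := exists_sub (X := K) (p := 7) (by norm_num) ⟨r, hK⟩
  obtain ⟨d, s, h1, -, h3, h4⟩ := exists_d (by norm_num) h hK hr Q hQ
  have h5 : d ≤ 6 := Nat.le_of_dvd (by norm_num) h1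
  have h6 : 0 < d := Nat.pos_of_ne_zero (fun h0 => by rw [h0, zero_mul] at h3; exact hr (by rw [h3]; exact dvd_zero 7))
  exact hd d h5 s (by rw [h3]; exact Nat.le_mul_of_pos_left s h6) h3 h4 h1

theorem orderOf_dvd_aut {n : ℕ} (h5 : 5 ≤ n) (h6 : n ≠ 6) {G : Type u} [Group G] [Finite G] {T : Subgroup G}
    [T.Normal] (hC : Subgroup.centralizer (T : Set G) = ⊥) (e : T ≃* alternatingGroup (Fin n)) (g : G) :
    ∃ σ : Perm (Fin n), orderOf g ∣ orderOf σ := by
  have h1 : Function.Injective (MulAut.conjNormal : G →* MulAut T) := by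
    rw [injective_iff_map_eq_one]
    intro x hx
    have : x ∈ Subgroup.centralizer (T : Set G) := by
      rw [Subgroup.mem_centralizer_iff]
      intro t ht
      have h2 := congrArg (fun f : MulAut T => ((f ⟨t, ht⟩ : T) : G)) hx
      simp only [MulAut.conjNormal_apply, MulAut.one_apply] at h2
      exact (mul_inv_eq_iff_eq_mul.mp h2).symm
    rw [hC, Subgroup.mem_bot] at this
    exact this
  obtain ⟨σ, hσ⟩ := orderOf_aut h5 h6 (MulAut.congr e (MulAut.conjNormal g))
  refine ⟨σ, ?_⟩
  rwa [MulEquiv.orderOf_eq, orderOf_injective _ h1] at hσ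

/-- **The row `A₇`.** -/
theorem row_seven : Row3.{u, v} (fun T _ => Nonempty (T ≃* alternatingGroup (Fin 7))) := by
  intro G Ω _ _ T g h ⟨e⟩
  by_contra hcon
  have := h.finG
  have := h.finΩ
  have := h.norm
  have := h.simple
  have hcT : Nat.card T = 2520 := by
    rw [Nat.card_congr e.toEquiv, card_alt_seven]
  have hCP : CP T 7 := (cp_perm (m := 7) (p := 7) (by norm_num) (by norm_num) (by norm_num)).of_injective
    ((alternatingGroup (Fin 7)).subtype.comp e.toMonoidHom)
    (Subtype.val_injective.comp e.injective)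
  have h1 := lower h hcon (md_seven.congr e.symm)
  have h2 := card_le h.two
  have hc := cyc h
  have h3 := orderOf_le h.cent ((mo_of (n := 7) (m := 12) (by norm_num) (by norm_num) (by norm_num)
    (by decide)).congr e.symm) g
  obtain ⟨a⟩ := exists_pt h
  obtain ⟨htr, h4⟩ := exists_index h
  obtain ⟨h5, -⟩ := h4 a
  have h6 := (stabilizer T a).card_mul_index
  rw [h5, hcT] at h6
  have h7 : Nat.card Ω ∣ 2520 := ⟨_, by rw [mul_comm]; exact h6.symm⟩
  have h8 : Nat.card Ω = 20 ∨ Nat.card Ω = 24 := by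
    have h9 : 19 ≤ Nat.card Ω := by omega
    have h10 : Nat.card Ω ≤ 24 := by omega
    generalize Nat.card Ω = n at h7 h9 h10 hc
    interval_cases n <;> omega
  rcases h8 with h8 | h8
  · rw [h8] at h6
    refine no_seven (hCP.sub (stabilizer T a)) (r := 18) (by omega) (by norm_num) ?_
    decide +kernel
  · rw [h8] at h6
    refine no_comp (p := 7) (by norm_num) (hCP.sub (stabilizer T a)) (q := 5) (r := 15) (by norm_num) (by norm_num)
      (by omega) (by norm_num) (by norm_num) (by norm_num) (by norm_num) ?_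
    intro d s h9 h10 h11
    have h12 : d ≤ 6 := Nat.le_of_dvd (by norm_num) h9
    interval_cases d <;> omega

/-- **The row `A₈`.** -/
theorem row_eight : Row3.{u, v} (fun T _ => Nonempty (T ≃* alternatingGroup (Fin 8))) := by
  intro G Ω _ _ T g h ⟨e⟩
  by_contra hcon
  have := h.finG
  have := h.finΩ
  have := h.norm
  have := h.simple
  have hcT : Nat.card T = 20160 := by
    rw [Nat.card_congr e.toEquiv, card_alt_eight]
  have hCP : CP T 7 := (cp_perm (m := 8) (p := 7) (by norm_num) (by norm_num) (by norm_num)).of_injective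
    ((alternatingGroup (Fin 8)).subtype.comp e.toMonoidHom)
    (Subtype.val_injective.comp e.injective)
  have h1 := lower h hcon (md_eight.congr e.symm)
  have h2 := card_le h.two
  have hc := cyc h
  have h3 := orderOf_le h.cent ((mo_of (n := 8) (m := 15) (by norm_num) (by norm_num) (by norm_num)
    (by decide)).congr e.symm) g
  obtain ⟨σ, hσ⟩ := orderOf_dvd_aut (n := 8) (by norm_num) (by norm_num) h.cent e g
  have hσ2 := orderOf_mem (m := 8) (by norm_num) σ
  have h14 : orderOf g ≠ 14 := by
    intro h14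
    rw [h14] at hσ
    have h15 : ∀ x ∈ LS 8, ¬ 14 ∣ x := by decide
    exact h15 _ hσ2 hσ
  obtain ⟨a⟩ := exists_pt h
  obtain ⟨htr, h4⟩ := exists_index h
  obtain ⟨h5, -⟩ := h4 a
  have h6 := (stabilizer T a).card_mul_index
  rw [h5, hcT] at h6
  have h7 : Nat.card Ω ∣ 20160 := ⟨_, by rw [mul_comm]; exact h6.symm⟩
  have h8 : Nat.card Ω = 24 ∨ Nat.card Ω = 30 := by
    have h9 : 22 ≤ Nat.card Ω := by omega
    have h10 : Nat.card Ω ≤ 30 := by omega
    generalize Nat.card Ω = n at h7 h9 h10 hc
    interval_cases n <;> omega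
  rcases h8 with h8 | h8
  · rw [h8] at h6
    refine no_comp (p := 7) (by norm_num) (hCP.sub (stabilizer T a)) (q := 5) (r := 120) (by norm_num) (by norm_num)
      (by omega) (by norm_num) (by norm_num) (by norm_num) (by norm_num) ?_
    intro d s h9 h10 h11
    have h12 : d ≤ 6 := Nat.le_of_dvd (by norm_num) h9
    interval_cases d <;> omega
  · rw [h8] at h6
    refine no_seven (hCP.sub (stabilizer T a)) (r := 96) (by omega) (by norm_num) ?_
    decide +kernel

end Cfsg.Agent.H396.TwoCyc
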