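import Cfsg.Agent.H396.TwoCyc.Frame
import Cfsg.Agent.UAlt.AutFive

/-!
# TEAM TWOCYC: the row `A₅` (helper396)

* `orderOf_aut` : the orders of the automorphisms of `A_n`, `n ≠ 6`;
* `row_five`.
-/

set_option autoImplicit false

namespace Cfsg.Agent.H396.TwoCyc

open MulAction Cfsg.Agent.H384.Cyc Cfsg.Agent.H482.TwoCyc Equiv Equiv.Perm

universe u v

/-- The order of an automorphism given by a permutation. -/
theorem orderOf_dvd_of_conj {n : ℕ} (f : MulAut (alternatingGroup (Fin n))) (σ : Perm (Fin n))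
    (h : ∀ x : alternatingGroup (Fin n), ((f x : alternatingGroup (Fin n)) : Perm (Fin n)) = σ * x * σ⁻¹) :
    orderOf f ∣ orderOf σ := by
  rw [orderOf_dvd_iff_pow_eq_one]
  have key : ∀ (k : ℕ) (x : alternatingGroup (Fin n)),
      (((f ^ k) x : alternatingGroup (Fin n)) : Perm (Fin n)) = σ ^ k * x * (σ ^ k)⁻¹ := by
    intro k
    induction k with
    | zero =>
      intro x
      simp
    | succ k ih =>
      intro x
      rw [pow_succ' f, MulAut.mul_apply, h, ih, pow_succ']
      group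
  apply MulEquiv.ext
  intro x
  apply Subtype.ext
  rw [key, pow_orderOf_eq_one]
  simp

/-- The orders of the automorphisms of `A_n`, `n ≠ 6`. -/
theorem orderOf_aut {n : ℕ} (h5 : 5 ≤ n) (h6 : n ≠ 6) (f : MulAut (alternatingGroup (Fin n))) :
    ∃ σ : Perm (Fin n), orderOf f ∣ orderOf σ := by
  obtain ⟨ψ, hψ⟩ := Cfsg.Agent.UAlt.AutFive.exists_autHom_fin n h5 h6
  exact ⟨ψ f, orderOf_dvd_of_conj f (ψ f) (hψ f)⟩

theorem mo_of {n m : ℕ} (h5 : 5 ≤ n) (h6 : n ≠ 6) (h10 : n ≤ 10) (hm : ∀ x ∈ LS n, x ≤ m) :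
    Mo (alternatingGroup (Fin n)) m := by
  intro f
  obtain ⟨σ, hσ⟩ := orderOf_aut h5 h6 f
  exact (Nat.le_of_dvd (orderOf_pos σ) hσ).trans (hm _ (orderOf_mem h10 σ))

/-- a three-cycle -/
def c0 : Perm (Fin 5) := c[0, 1, 2]
/-- its normalizer -/
def kl : List (Perm (Fin 5)) := [1, c[0,1,2], c[0,2,1], c[0,1] * c[3,4], c[0,2] * c[3,4], c[1,2]*c[3,4]]
/-- the double cosets -/
def rl : Fin 3 → Perm (Fin 5) := ![1, c[4,0,1], c[3,0] * c[4,1]]

theorem kl_of : ∀ k : Perm (Fin 5), sign k = 1 → (k * c0 = c0 * k ∨ k * c0 = c0 ^ 2 * k) → k ∈ kl := by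
  decide +kernel

theorem kl_rl : ∀ t : Perm (Fin 5), sign t = 1 → ∃ k ∈ kl, ∃ k' ∈ kl, ∃ i : Fin 3, k * t * k' = rl i := by
  decide +kernel

theorem conj_c0 : ∀ c : Perm (Fin 5), c ^ 3 = 1 → c ≠ 1 → ∃ w : Perm (Fin 5), sign w = 1 ∧ w * c = c0 * w := by
  decide +kernel

theorem kl_inj : ∃ f : Fin 6 → Perm (Fin 5), ∀ k ∈ kl, ∃ i, f i = k :=
  ⟨fun i => kl.getD i 1, by decide +kernel⟩

theorem rl_alt : ∀ i, rl i ∈ alternatingGroup (Fin 5) := by
  intro i
  rw [mem_alternatingGroup]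
  revert i
  decide +kernel

/-- A subgroup of order six of `A₅` is conjugate to the normalizer of `c0`. -/
theorem six (K : Subgroup (alternatingGroup (Fin 5))) (hK : Nat.card K = 6) :
    ∃ w : alternatingGroup (Fin 5), ∀ k : alternatingGroup (Fin 5),
      k ∈ K ↔ ((w * k * w⁻¹ : alternatingGroup (Fin 5)) : Perm (Fin 5)) ∈ kl := by
  classical
  have : Fact (Nat.Prime 3) := ⟨Nat.prime_three⟩
  obtain ⟨c, hc⟩ := exists_prime_orderOf_dvd_card' (G := K) 3 (by rw [hK]; norm_num)
  have hc3 : ((c : alternatingGroup (Fin 5)) : Perm (Fin 5)) ^ 3 = 1 := by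
    have h1 : c ^ 3 = 1 := by rw [← hc]; exact pow_orderOf_eq_one c
    exact congrArg (fun x : K => ((x : alternatingGroup (Fin 5)) : Perm (Fin 5))) h1
  have hc1 : ((c : alternatingGroup (Fin 5)) : Perm (Fin 5)) ≠ 1 := by
    intro h1
    have h2 : c = 1 := Subtype.ext (Subtype.ext h1)
    rw [h2, orderOf_one] at hc
    norm_num at hc
  obtain ⟨w, hw, hwc⟩ := conj_c0 _ hc3 hc1
  have hidx : (Subgroup.zpowers c).index = 2 := by
    have h1 := (Subgroup.zpowers c).card_mul_index
    rw [Nat.card_zpowers, hc, hK] at h1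
    omega
  have hnorm : (Subgroup.zpowers c).Normal := Subgroup.normal_of_index_eq_two hidx
  let w' : alternatingGroup (Fin 5) := ⟨w, mem_alternatingGroup.2 hw⟩
  have hle : ∀ k ∈ K, ((w' * k * w'⁻¹ : alternatingGroup (Fin 5)) : Perm (Fin 5)) ∈ kl := by
    intro k hk
    apply kl_of
    · exact mem_alternatingGroup.1 (w' * k * w'⁻¹).2
    · have h1 : (⟨k, hk⟩ : K) * c * (⟨k, hk⟩ : K)⁻¹ ∈ Subgroup.zpowers c :=
        hnorm.conj_mem c (Subgroup.mem_zpowers c) _
      rw [← mem_powers_iff_mem_zpowers, Submonoid.mem_powers_iff] at h1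
      obtain ⟨j, hj⟩ := h1
      have h2 : (⟨k, hk⟩ : K) * c * (⟨k, hk⟩ : K)⁻¹ = 1 ∨ (⟨k, hk⟩ : K) * c * (⟨k, hk⟩ : K)⁻¹ = c ∨
          (⟨k, hk⟩ : K) * c * (⟨k, hk⟩ : K)⁻¹ = c ^ 2 := by
        rw [← hj, ← pow_mod_orderOf, hc]
        have h3 : j % 3 < 3 := Nat.mod_lt _ (by norm_num)
        interval_cases (j % 3)
        · left; exact pow_zero c
        · right; left; exact pow_one c
        · right; right; rfl
      have h4 : ∀ z : K, ((w' * (z : alternatingGroup (Fin 5)) * w'⁻¹ : alternatingGroup (Fin 5)) : Perm (Fin 5)) =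
          w * (z : alternatingGroup (Fin 5)) * w⁻¹ := fun z => rfl
      have h5 : c0 = w * (c : alternatingGroup (Fin 5)) * w⁻¹ := by
        rw [hwc]; group
      rcases h2 with h2 | h2 | h2
      · exfalso
        rw [mul_inv_eq_one, mul_eq_left] at h2
        rw [h2, orderOf_one] at hc
        norm_num at hc
      · left
        rw [mul_inv_eq_iff_eq_mul] at h2
        have h6 : (k : Perm (Fin 5)) * (c : alternatingGroup (Fin 5)) = (c : alternatingGroup (Fin 5)) * (k : Perm (Fin 5)) :=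
          congrArg (fun x : K => ((x : alternatingGroup (Fin 5)) : Perm (Fin 5))) h2
        show w * k * w⁻¹ * c0 = c0 * (w * k * w⁻¹)
        rw [h5]
        calc w * (k : Perm (Fin 5)) * w⁻¹ * (w * (c : alternatingGroup (Fin 5)) * w⁻¹)
            = w * ((k : Perm (Fin 5)) * (c : alternatingGroup (Fin 5))) * w⁻¹ := by group
          _ = w * ((c : alternatingGroup (Fin 5)) * (k : Perm (Fin 5))) * w⁻¹ := by rw [h6]
          _ = _ := by group
      · right
        rw [mul_inv_eq_iff_eq_mul] at h2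
        have h6 : (k : Perm (Fin 5)) * (c : alternatingGroup (Fin 5)) =
            ((c : alternatingGroup (Fin 5)) : Perm (Fin 5)) ^ 2 * (k : Perm (Fin 5)) :=
          congrArg (fun x : K => ((x : alternatingGroup (Fin 5)) : Perm (Fin 5))) h2
        show w * k * w⁻¹ * c0 = c0 ^ 2 * (w * k * w⁻¹)
        rw [h5]
        calc w * (k : Perm (Fin 5)) * w⁻¹ * (w * (c : alternatingGroup (Fin 5)) * w⁻¹)
            = w * ((k : Perm (Fin 5)) * (c : alternatingGroup (Fin 5))) * w⁻¹ := by group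
          _ = w * (((c : alternatingGroup (Fin 5)) : Perm (Fin 5)) ^ 2 * (k : Perm (Fin 5))) * w⁻¹ := by rw [h6]
          _ = (w * (c : alternatingGroup (Fin 5)) * w⁻¹) ^ 2 * (w * (k : Perm (Fin 5)) * w⁻¹) := by
            rw [sq, sq]; group
  refine ⟨w', fun k => ⟨hle k, fun hk => ?_⟩⟩
  -- counting
  obtain ⟨f, hf⟩ := kl_inj
  choose φ hφ using fun k : K => hf _ (hle k k.2)
  have hφi : Function.Injective φ := by
    intro a b hab
    have h1 := hφ a
    rw [hab, hφ b] at h1
    have h2 : w' * (b : alternatingGroup (Fin 5)) * w'⁻¹ = w' * a * w'⁻¹ := Subtype.ext h1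
    exact (Subtype.ext (mul_left_cancel (mul_right_cancel h2))).symm
  have hbij : Function.Bijective φ := by
    rw [Nat.bijective_iff_injective_and_card]
    exact ⟨hφi, by rw [hK, Nat.card_fin]⟩
  obtain ⟨i, hi⟩ := hf _ hk
  obtain ⟨b, hb⟩ := hbij.2 i
  have h1 := hφ b
  rw [hb, hi] at h1
  have h2 : w' * k * w'⁻¹ = w' * (b : alternatingGroup (Fin 5)) * w'⁻¹ := Subtype.ext h1
  rw [mul_left_cancel (mul_right_cancel h2)]
  exact b.2

/-- **The row `A₅`.** -/
theorem row_five : Row3.{u, v} (fun T _ => Nonempty (T ≃* alternatingGroup (Fin 5))) := by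
  intro G Ω _ _ T g h ⟨e⟩
  by_contra hcon
  have := h.finG
  have := h.finΩ
  have := h.norm
  have hcT : Nat.card T = 60 := by
    rw [Nat.card_congr e.toEquiv]
    have h1 := H321.Alt.card_alt (n := 5) (by norm_num)
    have h2 : Nat.factorial 5 = 120 := rfl
    omega
  have h1 := lower h hcon (md_five.congr e.symm)
  have h2 := card_le h.two
  have h3 := orderOf_le h.cent ((mo_of (n := 5) (m := 6) le_rfl (by norm_num) (by norm_num) (by decide)).congr e.symm) g
  obtain ⟨a⟩ := exists_pt h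
  obtain ⟨htr, h4⟩ := exists_index h
  obtain ⟨h5, -⟩ := h4 a
  have h6 := (stabilizer T a).card_mul_index
  rw [h5, hcT] at h6
  have h7 : Nat.card Ω ∣ 60 := ⟨_, by rw [mul_comm]; exact h6.symm⟩
  have h8 : Nat.card Ω = 10 ∨ Nat.card Ω = 12 := by
    have h9 : 10 ≤ Nat.card Ω := by omega
    have h10 : Nat.card Ω ≤ 12 := by omega
    interval_cases (Nat.card Ω)
    · left; rfl
    · norm_num at h7
    · right; rfl
  rcases h8 with h8 | h8
  · -- ten points
    rw [h8] at h6
    have h9 : Nat.card (stabilizer T a) = 6 := by omega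
    obtain ⟨K, hKdef⟩ : ∃ K : Subgroup (alternatingGroup (Fin 5)), K = (stabilizer T a).map e.toMonoidHom := ⟨_, rfl⟩
    have hK : Nat.card K = 6 := by
      rw [hKdef, ← h9]
      exact (Nat.card_congr ((stabilizer T a).equivMapOfInjective _ e.injective).toEquiv).symm
    have hmem : ∀ t : T, t • a = a ↔ e t ∈ K := by
      intro t
      rw [hKdef, Subgroup.mem_map]
      constructor
      · intro ht
        exact ⟨t, ht, rfl⟩
      · rintro ⟨t', ht', hte⟩
        rw [e.injective hte] at ht'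
        exact ht'
    obtain ⟨w, hw⟩ := six K hK
    apply hcon
    -- move the base point
    let b : Ω := e.symm w • a
    have hb : ∀ t : T, t • b = b ↔ ((e t : alternatingGroup (Fin 5)) : Perm (Fin 5)) ∈ kl := by
      intro t
      have h10 : t • b = b ↔ ((e.symm w)⁻¹ * t * e.symm w) • a = a := by
        show t • e.symm w • a = e.symm w • a ↔ _
        rw [mul_smul, mul_smul, inv_smul_eq_iff]
      rw [h10, hmem, hw, map_mul, map_mul, map_inv, MulEquiv.apply_symm_apply]
      have h11 : w * (w⁻¹ * e t * w) * w⁻¹ = e t := by group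
      rw [h11]
    refine rk_le_of_cover h b (fun i => e.symm ⟨rl i, rl_alt i⟩ • b) ?_
    intro ω
    obtain ⟨t, rfl⟩ := exists_smul_eq T b ω
    obtain ⟨k, hk, k', hk', i, hi⟩ := kl_rl (e t : alternatingGroup (Fin 5)) (mem_alternatingGroup.1 (e t).2)
    have hkl : ∀ k ∈ kl, k ∈ alternatingGroup (Fin 5) := by
      intro k hk
      rw [mem_alternatingGroup]
      revert k
      decide +kernel
    have h12 : e.symm ⟨k, hkl k hk⟩ • b = b := by
      rw [hb, MulEquiv.apply_symm_apply]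
      exact hk
    have h13 : e.symm ⟨k', hkl k' hk'⟩ • b = b := by
      rw [hb, MulEquiv.apply_symm_apply]
      exact hk'
    refine ⟨i, (e.symm ⟨k, hkl k hk⟩)⁻¹, ?_, ?_⟩
    · rw [inv_smul_eq_iff, h12]
    · have h14 : e.symm ⟨k, hkl k hk⟩ * t * e.symm ⟨k', hkl k' hk'⟩ = e.symm ⟨rl i, rl_alt i⟩ := by
        apply e.injective
        rw [map_mul, map_mul, MulEquiv.apply_symm_apply, MulEquiv.apply_symm_apply, MulEquiv.apply_symm_apply]
        exact Subtype.ext hi
      show (e.symm ⟨k, hkl k hk⟩)⁻¹ • e.symm ⟨rl i, rl_alt i⟩ • b = t • b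
      rw [← h14, inv_smul_eq_iff, mul_smul, mul_smul, h13]
  · -- twelve points
    rw [h8] at h6
    have h9 : Nat.card (stabilizer T a) = 5 := by omega
    have h10 : stabilizer T a ≠ ⊥ := by
      intro h11
      rw [h11, Subgroup.card_bot] at h9
      norm_num at h9
    have h11 := normalizer_eq h a h10
    have : Fact (Nat.Prime 5) := ⟨Nat.prime_five⟩
    have h12 := sylow_one Nat.prime_five (stabilizer T a)
      (IsPGroup.of_card (n := 1) (by rw [h9, pow_one])) (by rw [h5, h8]; norm_num)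
    rw [h11, h5, h8] at h12
    norm_num at h12

end Cfsg.Agent.H396.TwoCyc
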