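import Cfsg.Agent.H396.TwoCyc.Deg
import Cfsg.Agent.H396.TwoCyc.Tools

/-!
# TEAM TWOCYC: the frame for the small alternating groups (helper396)

* `exists_pt` : a point;
* `cyc` : the two cases `|Ω| = 2 o(g)` and `2 |Ω| ≤ 3 o(g)`;
* `normalizer_eq` : the point stabilizers in the socle are self-normalizing;
* `rk_le_of_cover` : the rank is at most three if three orbits of the point stabilizer in the socle cover.
-/

set_option autoImplicit false

namespace Cfsg.Agent.H396.TwoCyc

open MulAction Cfsg.Agent.H384.Cyc Cfsg.Agent.H482.TwoCyc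

universe u v

/-- subgroups of a finite cyclic group are determined by their order -/
theorem eq_of_card {C : Type*} [Group C] [Finite C] [IsCyclic C] {A B : Subgroup C}
    (h : Nat.card A = Nat.card B) : A = B := by
  classical
  have : Fintype C := Fintype.ofFinite C
  have key : ∀ D : Subgroup C, (D : Set C) = {x : C | x ^ Nat.card D = 1} := by
    intro D
    apply Set.eq_of_subset_of_ncard_le
    · intro x hx
      have h1 : (⟨x, hx⟩ : D) ^ Nat.card D = 1 := pow_card_eq_one'
      exact congrArg Subtype.val h1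
    · have h1 := IsCyclic.card_pow_eq_one_le (α := C) (n := Nat.card D) Nat.card_pos
      have h2 : ({x : C | x ^ Nat.card D = 1} : Set C).ncard ≤ Nat.card D := by
        convert h1 using 1
        rw [← Set.ncard_coe_finset]
        congr 1
        ext x
        simp
      exact h2
    · exact Set.toFinite _
  apply SetLike.coe_injective
  rw [key A, key B, h]

variable {G : Type u} {Ω : Type v} [Group G] [MulAction G Ω] {T : Subgroup G} {g : G}

theorem exists_pt (h : TC G Ω T g) : Nonempty Ω := by
  by_contra hcon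
  rw [not_nonempty_iff] at hcon
  have := h.two
  unfold Two at this
  rw [Nat.card_of_isEmpty] at this
  omega

theorem nontriv (h : TC G Ω T g) : Nontrivial Ω := by
  have := h.finΩ
  rw [← Finite.one_lt_card_iff_nontrivial]
  have h2 : Nat.card (orbitRel.Quotient (Subgroup.zpowers g) Ω) ≤ Nat.card Ω :=
    Nat.card_le_card_of_surjective _ Quotient.mk''_surjective
  rw [h.two] at h2
  omega

/-- The stabilizers of the points in the socle are self-normalizing. -/
theorem normalizer_eq (h : TC G Ω T g) (a : Ω) (hK : stabilizer T a ≠ ⊥) :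
    Subgroup.normalizer ((stabilizer T a : Subgroup T) : Set T) = stabilizer T a := by
  have := h.finG
  have := h.finΩ
  have := h.faithful
  have := h.prim
  have := h.norm
  have := nontriv h
  apply le_antisymm _ Subgroup.le_normalizer
  intro x hx
  by_contra hxa
  apply hK
  obtain ⟨K, hKdef⟩ : ∃ K : Subgroup G, K = (stabilizer T a).map T.subtype := ⟨_, rfl⟩
  have hmem : ∀ y : G, y ∈ K ↔ y ∈ T ∧ y • a = a := by
    intro y
    rw [hKdef, Subgroup.mem_map]
    constructor
    · rintro ⟨t, ht, rfl⟩
      exact ⟨t.2, ht⟩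
    · rintro ⟨h1, h2⟩
      exact ⟨⟨y, h1⟩, h2, rfl⟩
  have h1 : stabilizer G a ≤ Subgroup.normalizer (K : Set G) := by
    intro y hy
    rw [Subgroup.mem_normalizer_iff]
    intro k
    rw [hmem, hmem]
    have hy' : y • a = a := hy
    have hy2 : y⁻¹ • a = a := by rw [inv_smul_eq_iff, hy']
    constructor
    · rintro ⟨h1, h2⟩
      refine ⟨h.norm.conj_mem k h1 y, ?_⟩
      rw [mul_smul, mul_smul, hy2, h2, hy']
    · rintro ⟨h1, h2⟩
      have h3 := h.norm.conj_mem _ h1 y⁻¹
      rw [inv_inv] at h3
      have h4 : y⁻¹ * (y * k * y⁻¹) * y = k := by group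
      rw [h4] at h3
      refine ⟨h3, ?_⟩
      rw [mul_smul, mul_smul, hy2] at h2
      calc k • a = y⁻¹ • y • k • a := by rw [inv_smul_smul]
        _ = a := by rw [h2, hy2]
  have h2 : (x : G) ∈ Subgroup.normalizer (K : Set G) := by
    rw [Subgroup.mem_normalizer_iff] at hx ⊢
    intro k
    rw [hKdef, Subgroup.mem_map, Subgroup.mem_map]
    constructor
    · rintro ⟨t, ht, rfl⟩
      exact ⟨x * t * x⁻¹, (hx t).1 ht, rfl⟩
    · rintro ⟨t, ht, hte⟩
      have h3 : k = ((x⁻¹ * t * x : T) : G) := by
        have h4 : (t : G) = (x : G) * k * (x : G)⁻¹ := hte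
        rw [Subgroup.coe_mul, Subgroup.coe_mul, Subgroup.coe_inv, h4]
        group
      refine ⟨x⁻¹ * t * x, ?_, h3.symm⟩
      apply (hx _).2
      have h4 : x * (x⁻¹ * t * x) * x⁻¹ = t := by group
      rw [h4]
      exact ht
  have h3 : IsCoatom (stabilizer G a) := (isCoatom_stabilizer_iff_preprimitive G a).2 h.prim
  have h4 : Subgroup.normalizer (K : Set G) = ⊤ := by
    apply h3.2
    refine lt_of_le_of_ne h1 (fun h5 => hxa ?_)
    rw [← h5] at h2
    exact h2
  rw [eq_bot_iff]
  intro t ht
  rw [Subgroup.mem_bot]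
  apply Subtype.ext
  apply FaithfulSMul.eq_of_smul_eq_smul (α := Ω)
  intro ω
  obtain ⟨y, rfl⟩ := exists_smul_eq G a ω
  have h5 : y⁻¹ ∈ Subgroup.normalizer (K : Set G) := by rw [h4]; trivial
  rw [Subgroup.mem_normalizer_iff] at h5
  have h6 := (h5 (t : G)).1 ((hmem _).2 ⟨t.2, ht⟩)
  rw [hmem, inv_inv] at h6
  have h7 := h6.2
  rw [mul_smul, mul_smul, inv_smul_eq_iff] at h7
  rw [h7]
  exact (one_smul G _).symm

/-- The two cases for an element with two cycles. -/
theorem cyc (h : TC G Ω T g) : Nat.card Ω = 2 * orderOf g ∨ 2 * Nat.card Ω ≤ 3 * orderOf g := by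
  classical
  have := h.finG
  have := h.finΩ
  have := h.faithful
  have hprim := h.prim
  by_cases hne : ∃ a b : Ω, Nat.card (orbit (Subgroup.zpowers g) a) ≠ Nat.card (orbit (Subgroup.zpowers g) b)
  · right
    exact card_le' h.two hne
  left
  push Not at hne
  obtain ⟨a⟩ := exists_pt h
  have := Fintype.ofFinite (orbitRel.Quotient (Subgroup.zpowers g) Ω)
  have h1 : Nat.card Ω = 2 * Nat.card (orbit (Subgroup.zpowers g) a) := by
    rw [card_eq_sum (K := Subgroup.zpowers g)]
    have h2 : ∀ q : orbitRel.Quotient (Subgroup.zpowers g) Ω, Nat.card q.orbit = Nat.card (orbit (Subgroup.zpowers g) a) := by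
      intro q
      obtain ⟨x, rfl⟩ := Quotient.exists_rep q
      exact hne x a
    rw [Finset.sum_congr rfl (fun q _ => h2 q), Finset.sum_const, Finset.card_univ, ← Nat.card_eq_fintype_card]
    have h3 := h.two
    unfold Two at h3
    rw [h3, smul_eq_mul]
  rw [h1]
  congr 1
  -- the orbits have length `orderOf g`
  have h2 : ∀ b : Ω, Nat.card (orbit (Subgroup.zpowers g) b) = (stabilizer (Subgroup.zpowers g) b).index := by
    intro b
    exact Nat.card_congr (orbitEquivQuotientStabilizer _ b)
  have h3 : stabilizer (Subgroup.zpowers g) a = ⊥ := by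
    rw [eq_bot_iff]
    intro z hz
    rw [Subgroup.mem_bot]
    apply Subtype.ext
    apply FaithfulSMul.eq_of_smul_eq_smul (α := Ω)
    intro ω
    have h4 : Nat.card (stabilizer (Subgroup.zpowers g) ω) = Nat.card (stabilizer (Subgroup.zpowers g) a) := by
      have h5 := (stabilizer (Subgroup.zpowers g) ω).card_mul_index
      have h6 := (stabilizer (Subgroup.zpowers g) a).card_mul_index
      rw [← h2] at h5 h6
      rw [hne ω a] at h5
      rw [← h6] at h5
      have h7 : 0 < Nat.card (orbit (Subgroup.zpowers g) a) := by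
        rw [h2]
        exact Nat.pos_of_ne_zero Subgroup.index_ne_zero_of_finite
      exact Nat.eq_of_mul_eq_mul_right h7 h5
    have h5 : stabilizer (Subgroup.zpowers g) ω = stabilizer (Subgroup.zpowers g) a :=
      eq_of_card h4
    have h6 : z ∈ stabilizer (Subgroup.zpowers g) ω := by rw [h5]; exact hz
    rw [show ((1 : Subgroup.zpowers g) : G) = 1 from rfl, one_smul]
    exact h6
  rw [h2, h3, Subgroup.index_bot, Nat.card_zpowers]

/-- Three orbits of the point stabilizer in the socle. -/
theorem rk_le_of_cover (h : TC G Ω T g) (a : Ω) (f : Fin 3 → Ω)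
    (hf : ∀ ω : Ω, ∃ (i : Fin 3) (t : T), t • a = a ∧ t • f i = ω) : rk G Ω ≤ 3 := by
  have := h.finG
  have := h.finΩ
  obtain ⟨htr, -⟩ := exists_index h
  let F : Fin 3 → orbitRel.Quotient G (Ω × Ω) := fun i => Quotient.mk'' (a, f i)
  have hF : Function.Surjective F := by
    intro q
    obtain ⟨⟨x, y⟩, rfl⟩ := Quotient.exists_rep q
    obtain ⟨s, hs⟩ := exists_smul_eq T a x
    obtain ⟨i, t, h1, h2⟩ := hf (s⁻¹ • y)
    refine ⟨i, ?_⟩
    apply Quotient.sound
    refine ⟨((s * t : T) : G)⁻¹, ?_⟩
    show ((s * t : T) : G)⁻¹ • (x, y) = (a, f i)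
    rw [Prod.smul_mk, inv_smul_eq_iff.2, inv_smul_eq_iff.2]
    · show y = (s * t) • f i
      rw [mul_smul, h2, smul_inv_smul]
    · show x = (s * t) • a
      rw [mul_smul, h1, hs]
  have h1 := Nat.card_le_card_of_surjective F hF
  rwa [Nat.card_fin] at h1

end Cfsg.Agent.H396.TwoCyc
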