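import Cfsg.Agent.H396.TwoCyc.Five

/-!
# TEAM TWOCYC: the row `A₆` (helper396)

* `sq_aut_six` : the squares of the automorphisms of `A₆` are induced by permutations;
* `mo_six`;
* `row_six`.
-/

set_option autoImplicit false

namespace Cfsg.Agent.H396.TwoCyc

open MulAction Cfsg.Agent.H384.Cyc Cfsg.Agent.H482.TwoCyc Equiv Equiv.Perm

universe u v

theorem type_of_three {x : Perm (Fin 6)} (hx : orderOf x = 3) : x.cycleType = {3} ∨ x.cycleType = {3, 3} := by
  obtain ⟨n, hn⟩ := cycleType_prime_order (σ := x) (by rw [hx]; exact Nat.prime_three)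
  have h1 := sum_cycleType_le x
  rw [Fintype.card_fin, hn, Multiset.sum_replicate, smul_eq_mul, hx] at h1
  have h2 : n = 0 ∨ n = 1 := by omega
  rw [hn, hx]
  rcases h2 with rfl | rfl
  · left; rfl
  · right; rfl

/-- a product of two three-cycles -/
def d0 : Perm (Fin 6) := c[0, 1, 2] * c[3, 4, 5]

/-- the swap of its cycles -/
def s0 : Perm (Fin 6) := c[0, 3] * c[1, 4] * c[2, 5]

theorem type_d0 : d0.cycleType = {3, 3} := by
  have h1 : orderOf d0 = 3 := orderOf_eq_prime (by decide) (by decide)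
  rcases type_of_three h1 with h | h
  · exfalso
    have h2 := sum_cycleType d0
    rw [h] at h2
    revert h2
    decide
  · exact h

/-- The elements of type `3²` form one class of `A₆`. -/
theorem conj_three {x y : alternatingGroup (Fin 6)} (hx : (x : Perm (Fin 6)).cycleType = {3, 3})
    (hy : (y : Perm (Fin 6)).cycleType = {3, 3}) : IsConj x y := by
  have key : ∀ z : alternatingGroup (Fin 6), (z : Perm (Fin 6)).cycleType = {3, 3} →
      ∃ w : alternatingGroup (Fin 6), w * (z : Perm (Fin 6)) * w⁻¹ = d0 := by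
    intro z hz
    have h1 : IsConj (z : Perm (Fin 6)) d0 := isConj_iff_cycleType_eq.2 (by rw [hz, type_d0])
    obtain ⟨w, hw⟩ := isConj_iff.1 h1
    rcases Int.units_eq_one_or (sign w) with h2 | h2
    · exact ⟨⟨w, mem_alternatingGroup.2 h2⟩, hw⟩
    · refine ⟨⟨s0 * w, mem_alternatingGroup.2 ?_⟩, ?_⟩
      · rw [Equiv.Perm.sign_mul, h2]
        decide
      · show s0 * w * (z : Perm (Fin 6)) * (s0 * w)⁻¹ = d0
        have h3 : s0 * d0 = d0 * s0 := by decide
        calc s0 * w * (z : Perm (Fin 6)) * (s0 * w)⁻¹ = s0 * (w * z * w⁻¹) * s0⁻¹ := by group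
          _ = d0 := by rw [hw, h3]; group
  obtain ⟨a, ha⟩ := key x hx
  obtain ⟨b, hb⟩ := key y hy
  rw [isConj_iff]
  refine ⟨b⁻¹ * a, Subtype.ext ?_⟩
  show (b : Perm (Fin 6))⁻¹ * a * x * ((b : Perm (Fin 6))⁻¹ * a)⁻¹ = y
  calc (b : Perm (Fin 6))⁻¹ * a * x * ((b : Perm (Fin 6))⁻¹ * a)⁻¹ = (b : Perm (Fin 6))⁻¹ * (a * x * (a : Perm (Fin 6))⁻¹) * b := by group
    _ = (b : Perm (Fin 6))⁻¹ * (b * y * (b : Perm (Fin 6))⁻¹) * b := by
      rw [show (a : Perm (Fin 6)) * x * (a : Perm (Fin 6))⁻¹ = d0 from ha,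
        show (b : Perm (Fin 6)) * y * (b : Perm (Fin 6))⁻¹ = d0 from hb]
    _ = y := by group

theorem type_conj {n : ℕ} {x y : alternatingGroup (Fin n)} (h : IsConj x y) :
    (x : Perm (Fin n)).cycleType = (y : Perm (Fin n)).cycleType := by
  apply isConj_iff_cycleType_eq.1
  obtain ⟨c, hc⟩ := isConj_iff.1 h
  exact isConj_iff.2 ⟨c, congrArg Subtype.val hc⟩

/-- The squares of the automorphisms of `A₆` preserve the three-cycles. -/
theorem three_sq (f : MulAut (alternatingGroup (Fin 6))) {c : alternatingGroup (Fin 6)}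
    (hc : (c : Perm (Fin 6)).IsThreeCycle) : (((f ^ 2) c : alternatingGroup (Fin 6)) : Perm (Fin 6)).IsThreeCycle := by
  have hmap : ∀ {x y : alternatingGroup (Fin 6)}, IsConj x y → IsConj (f x) (f y) := by
    intro x y h
    obtain ⟨w, hw⟩ := isConj_iff.1 h
    exact isConj_iff.2 ⟨f w, by rw [← hw]; simp⟩
  have hmap' : ∀ {x y : alternatingGroup (Fin 6)}, IsConj (f x) (f y) → IsConj x y := by
    intro x y h
    obtain ⟨w, hw⟩ := isConj_iff.1 h
    refine isConj_iff.2 ⟨f.symm w, f.injective ?_⟩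
    rw [map_mul, map_mul, map_inv, MulEquiv.apply_symm_apply, hw]
  have ho : ∀ x : alternatingGroup (Fin 6), orderOf (x : Perm (Fin 6)) = 3 →
      orderOf ((f x : alternatingGroup (Fin 6)) : Perm (Fin 6)) = 3 := by
    intro x hx
    rw [Subgroup.orderOf_coe, MulEquiv.orderOf_eq, ← Subgroup.orderOf_coe, hx]
  have hc3 : orderOf (c : Perm (Fin 6)) = 3 := hc.orderOf
  have h2 : (f ^ 2) c = f (f c) := by
    rw [pow_two]
    rfl
  rw [h2]
  rcases type_of_three (ho c hc3) with h | h
  · have h3 : IsConj c (f c) := alternatingGroup.isThreeCycle_isConj (by simp) hc h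
    have h4 := type_conj (hmap h3)
    rw [h] at h4
    exact h4.symm
  · rcases type_of_three (ho _ (ho c hc3)) with h3 | h3
    · exact h3
    · exfalso
      have h4 : IsConj (f c) (f (f c)) := conj_three h h3
      have h5 := type_conj (hmap' h4)
      rw [h, hc] at h5
      revert h5
      decide

/-- The squares of the automorphisms of `A₆` are induced by permutations. -/
theorem sq_aut_six (f : MulAut (alternatingGroup (Fin 6))) : ∃ σ : Perm (Fin 6), orderOf (f ^ 2) ∣ orderOf σ := by
  obtain ⟨σ, hσ⟩ := Cfsg.Agent.UAlt.AutFive.exists_conj_of (m := 4) (by norm_num) (f ^ 2)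
    (fun i hi => three_sq f (Cfsg.Agent.StandardComponent.AltAut.isThreeCycle_cyc hi))
  exact ⟨σ, orderOf_dvd_of_conj (f ^ 2) σ hσ⟩

theorem mo_six : Mo (alternatingGroup (Fin 6)) 12 := by
  intro f
  obtain ⟨σ, hσ⟩ := sq_aut_six f
  have h1 : orderOf f ∣ 2 * orderOf (f ^ 2) := by
    rw [orderOf_dvd_iff_pow_eq_one, pow_mul, pow_orderOf_eq_one]
  have h2 : orderOf f ∣ 2 * orderOf σ := h1.trans (Nat.mul_dvd_mul_left 2 hσ)
  have h3 : orderOf σ ≤ 6 := by
    have h4 : ∀ x ∈ LS 6, x ≤ 6 := by decide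
    exact h4 _ (orderOf_mem (by norm_num) σ)
  have h4 := Nat.le_of_dvd (by have := orderOf_pos σ; omega) h2
  omega

/-- no subgroup of order `15` -/
theorem no_fifteen {K : Type u} [Group K] [Finite K] (h : CP K 5) (hK : Nat.card K = 15) : False := by
  obtain ⟨Q, hQ⟩ := exists_sub (X := K) Nat.prime_five (by rw [hK]; norm_num)
  obtain ⟨d, s, h1, -, h3, h4⟩ := exists_d Nat.prime_five h (r := 3) hK (by norm_num) Q hQ
  have h5 : d ≤ 4 := Nat.le_of_dvd (by norm_num) h1
  interval_cases d <;> omega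

/-- no subgroup of order `20` -/
theorem no_twenty {X : Type u} [Group X] [Finite X] (h : CP X 5) (hX : Nat.card X = 360) (K : Subgroup X)
    (hK : Nat.card K = 20) : False := by
  obtain ⟨Q, hQ⟩ := exists_sub (X := K) Nat.prime_five (by rw [hK]; norm_num)
  obtain ⟨d, s, h1, h2, h3, h4⟩ := exists_d Nat.prime_five (h.sub K) (r := 4) hK (by norm_num) Q hQ
  have h5 : d = 4 := by
    have h5 : d ≤ 4 := Nat.le_of_dvd (by norm_num) h1
    interval_cases d <;> omega
  have hQ' : Nat.card (Q.map K.subtype) = 5 := by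
    rw [← hQ]
    exact (Nat.card_congr (Q.equivMapOfInjective _ K.subtype_injective).toEquiv).symm
  obtain ⟨d', s', h1', h2', h3', h4'⟩ := exists_d Nat.prime_five h (r := 72) hX (by norm_num) _ hQ'
  have h6 : K ≤ Subgroup.normalizer ((Q.map K.subtype : Subgroup X) : Set X) := by
    have h7 : Subgroup.normalizer (Q : Set K) = ⊤ := by
      apply Subgroup.eq_top_of_card_eq
      rw [h2, h5, hK]
    have h8 : Q.Normal := Subgroup.normalizer_eq_top_iff.1 h7
    intro x hx
    rw [Subgroup.mem_normalizer_iff]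
    intro y
    rw [Subgroup.mem_map, Subgroup.mem_map]
    constructor
    · rintro ⟨z, hz, rfl⟩
      exact ⟨(⟨x, hx⟩ : K) * z * (⟨x, hx⟩ : K)⁻¹, h8.conj_mem z hz _, rfl⟩
    · rintro ⟨z, hz, hzy⟩
      have h9 : (z : X) = x * y * x⁻¹ := hzy
      refine ⟨(⟨x, hx⟩ : K)⁻¹ * z * (⟨x, hx⟩ : K), ?_, ?_⟩
      · have h10 := h8.conj_mem z hz (⟨x, hx⟩ : K)⁻¹
        rwa [inv_inv] at h10
      · show x⁻¹ * (z : X) * x = y
        rw [h9]
        group
  have h7 := Subgroup.card_dvd_of_le h6
  rw [hK, h2'] at h7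
  have h8 : d' ≤ 4 := Nat.le_of_dvd (by norm_num) h1'
  interval_cases d' <;> omega

/-- A subgroup of order `18` is not self-normalizing. -/
theorem no_eighteen {X : Type u} [Group X] [Finite X] [IsSimpleGroup X] (hX : Nat.card X = 360) (K : Subgroup X)
    (hK : Nat.card K = 18) (hN : Subgroup.normalizer (K : Set X) = K) : False := by
  have : Fact (Nat.Prime 3) := ⟨Nat.prime_three⟩
  let P : Sylow 3 K := default
  have hP : Nat.card (P : Subgroup K) = 9 := by
    rw [P.card_eq_multiplicity, hK]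
    have : (18 : ℕ).factorization 3 = 2 := by
      rw [show (18 : ℕ) = 3 ^ 2 * 2 by norm_num, Nat.factorization_mul (by norm_num) (by norm_num),
        Nat.Prime.factorization_pow Nat.prime_three, Finsupp.add_apply, Finsupp.single_eq_same,
        Nat.factorization_eq_zero_of_not_dvd (by norm_num : ¬ 3 ∣ 2)]
    rw [this]
    norm_num
  have hPi : (P : Subgroup K).index = 2 := by
    have h1 := (P : Subgroup K).card_mul_index
    rw [hP, hK] at h1
    omega
  have hPn : (P : Subgroup K).Normal := Subgroup.normal_of_index_eq_two hPi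
  obtain ⟨P', hP'⟩ : ∃ P' : Subgroup X, P' = (P : Subgroup K).map K.subtype := ⟨_, rfl⟩
  have hP'c : Nat.card P' = 9 := by
    rw [hP']
    exact (Nat.card_congr ((P : Subgroup K).equivMapOfInjective _ K.subtype_injective).toEquiv).symm.trans hP
  have hP'i : P'.index = 40 := by
    have h1 := P'.card_mul_index
    rw [hP'c, hX] at h1
    omega
  have hKi : K.index = 20 := by
    have h1 := K.card_mul_index
    rw [hK, hX] at h1
    omega
  have h1 := sylow_one Nat.prime_three P' (IsPGroup.of_card (n := 2) (by rw [hP'c]; norm_num)) (by rw [hP'i]; norm_num)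
  have h6 : K ≤ Subgroup.normalizer (P' : Set X) := by
    rw [hP']
    intro x hx
    rw [Subgroup.mem_normalizer_iff]
    intro y
    rw [Subgroup.mem_map, Subgroup.mem_map]
    constructor
    · rintro ⟨z, hz, rfl⟩
      exact ⟨(⟨x, hx⟩ : K) * z * (⟨x, hx⟩ : K)⁻¹, hPn.conj_mem z hz _, rfl⟩
    · rintro ⟨z, hz, hzy⟩
      have h9 : (z : X) = x * y * x⁻¹ := hzy
      refine ⟨(⟨x, hx⟩ : K)⁻¹ * z * (⟨x, hx⟩ : K), ?_, ?_⟩
      · have h10 := hPn.conj_mem z hz (⟨x, hx⟩ : K)⁻¹
        rwa [inv_inv] at h10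
      · show x⁻¹ * (z : X) * x = y
        rw [h9]
        group
  have h7 := Subgroup.index_dvd_of_le h6
  rw [hKi] at h7
  have hne : Subgroup.normalizer (P' : Set X) ≠ ⊤ := by
    intro h8
    have h9 : P'.Normal := Subgroup.normalizer_eq_top_iff.1 h8
    rcases h9.eq_bot_or_eq_top with h10 | h10
    · rw [h10, Subgroup.card_bot] at hP'c
      norm_num at hP'c
    · rw [h10, Subgroup.card_top, hX] at hP'c
      norm_num at hP'c
  have h8 := index_ge Nat.prime_five (by rw [hX]; norm_num) _ hne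
  have h9 := (Subgroup.normalizer (P' : Set X)).card_mul_index
  rw [hX] at h9
  have h10 : (Subgroup.normalizer (P' : Set X)).index = 10 := by
    have h11 : (Subgroup.normalizer (P' : Set X)).index ≤ 20 := Nat.le_of_dvd (by norm_num) h7
    generalize (Subgroup.normalizer (P' : Set X)).index = i at h1 h7 h8 h11
    interval_cases i <;> omega
  have h11 : Nat.card (Subgroup.normalizer (P' : Set X)) = 36 := by
    rw [h10] at h9
    omega
  have h12 : (K.subgroupOf (Subgroup.normalizer (P' : Set X))).index = 2 := by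
    have h13 := (K.subgroupOf (Subgroup.normalizer (P' : Set X))).card_mul_index
    rw [h11, Nat.card_congr (Subgroup.subgroupOfEquivOfLe h6).toEquiv, hK] at h13
    omega
  have h13 : (K.subgroupOf (Subgroup.normalizer (P' : Set X))).Normal := Subgroup.normal_of_index_eq_two h12
  have h14 := (Subgroup.normal_subgroupOf_iff_le_normalizer h6).1 h13
  rw [hN] at h14
  have h15 := Subgroup.card_le_of_le h14
  rw [hK, h11] at h15
  omega

/-- **The row `A₆`.** -/
theorem row_six : Row3.{u, v} (fun T _ => Nonempty (T ≃* alternatingGroup (Fin 6))) := by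
  intro G Ω _ _ T g h ⟨e⟩
  by_contra hcon
  have := h.finG
  have := h.finΩ
  have := h.norm
  have := h.simple
  have hcT : Nat.card T = 360 := by
    rw [Nat.card_congr e.toEquiv]
    have h1 := H321.Alt.card_alt (n := 6) (by norm_num)
    have h2 : Nat.factorial 6 = 720 := rfl
    omega
  have hCP : CP T 5 := (cp_perm (m := 6) (p := 5) Nat.prime_five (by norm_num) (by norm_num)).of_injective
    ((alternatingGroup (Fin 6)).subtype.comp e.toMonoidHom)
    (Subtype.val_injective.comp e.injective)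
  have h1 := lower h hcon (md_six.congr e.symm)
  have h2 := card_le h.two
  have h3 := orderOf_le h.cent (mo_six.congr e.symm) g
  obtain ⟨a⟩ := exists_pt h
  obtain ⟨htr, h4⟩ := exists_index h
  obtain ⟨h5, -⟩ := h4 a
  have h6 := (stabilizer T a).card_mul_index
  rw [h5, hcT] at h6
  have h7 : Nat.card Ω ∣ 360 := ⟨_, by rw [mul_comm]; exact h6.symm⟩
  have h8 : Nat.card Ω = 18 ∨ Nat.card Ω = 20 ∨ Nat.card Ω = 24 := by
    have h9 : 16 ≤ Nat.card Ω := by omega
    have h10 : Nat.card Ω ≤ 24 := by omega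
    generalize Nat.card Ω = n at h7 h9 h10
    interval_cases n <;> omega
  rcases h8 with h8 | h8 | h8
  · rw [h8] at h6
    exact no_twenty hCP hcT (stabilizer T a) (by omega)
  · rw [h8] at h6
    have h9 : Nat.card (stabilizer T a) = 18 := by omega
    refine no_eighteen hcT (stabilizer T a) h9 (normalizer_eq h a ?_)
    intro h11
    rw [h11, Subgroup.card_bot] at h9
    norm_num at h9
  · rw [h8] at h6
    exact no_fifteen (hCP.sub (stabilizer T a)) (by omega)

end Cfsg.Agent.H396.TwoCyc
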